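import Mathlib.GroupTheory.OrderOfElement
import Mathlib.GroupTheory.SpecificGroups.Cyclic
import Mathlib.GroupTheory.Perm.Cycle.PossibleTypes
import Mathlib.GroupTheory.QuotientGroup.Basic

/-!
Element orders (spectrum) and prime-graph adjacency, in the raw forms used by the statements:
the spectrum is `Set.range (orderOf : G → ℕ)` and primes `p`, `q` are adjacent when
`∃ g : G, orderOf g = p * q`.
-/

namespace CfsgLib.Spectrum

variable {G H : Type*} [Group G] [Group H]

/-- The spectrum is closed under divisors. -/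
theorem mem_range_orderOf_of_dvd [Finite G] {m n : ℕ} (h : n ∈ Set.range (orderOf : G → ℕ))
    (hmn : m ∣ n) : m ∈ Set.range (orderOf : G → ℕ) := by
  obtain ⟨g, rfl⟩ := h
  exact ⟨g ^ (orderOf g / m), orderOf_pow_orderOf_div (orderOf_pos g).ne' hmn⟩

/-- Every order dividing an element order is an element order. -/
theorem exists_orderOf_eq_of_dvd [Finite G] {m : ℕ} (g : G) (hm : m ∣ orderOf g) :
    ∃ x : G, orderOf x = m :=
  mem_range_orderOf_of_dvd ⟨g, rfl⟩ hm

/-- Isomorphic groups have the same spectrum. -/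
theorem range_orderOf_congr (e : G ≃* H) :
    Set.range (orderOf : G → ℕ) = Set.range (orderOf : H → ℕ) := by
  ext n
  constructor
  · rintro ⟨g, rfl⟩
    exact ⟨e g, e.orderOf_eq g⟩
  · rintro ⟨h, rfl⟩
    exact ⟨e.symm h, e.symm.orderOf_eq h⟩

/-- A subgroup has a smaller spectrum. -/
theorem range_orderOf_subgroup_subset (K : Subgroup G) :
    Set.range (orderOf : K → ℕ) ⊆ Set.range (orderOf : G → ℕ) := by
  rintro n ⟨x, rfl⟩
  exact ⟨(x : G), orderOf_submonoid x⟩

/-- An injective homomorphism gives an inclusion of spectra. -/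
theorem range_orderOf_subset_of_injective (f : H →* G) (hf : Function.Injective f) :
    Set.range (orderOf : H → ℕ) ⊆ Set.range (orderOf : G → ℕ) := by
  rintro n ⟨x, rfl⟩
  exact ⟨f x, orderOf_injective f hf x⟩

/-- The spectrum of a quotient is contained in the spectrum. -/
theorem range_orderOf_quotient_subset [Finite G] (N : Subgroup G) [N.Normal] :
    Set.range (orderOf : G ⧸ N → ℕ) ⊆ Set.range (orderOf : G → ℕ) := by
  rintro n ⟨x, rfl⟩
  induction x using QuotientGroup.induction_on with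
  | H g => exact mem_range_orderOf_of_dvd ⟨g, rfl⟩ (orderOf_map_dvd (QuotientGroup.mk' N) g)

/-- The spectrum of a homomorphic image is contained in the spectrum. -/
theorem range_orderOf_subset_of_surjective [Finite G] (f : G →* H) (hf : Function.Surjective f) :
    Set.range (orderOf : H → ℕ) ⊆ Set.range (orderOf : G → ℕ) := by
  rintro n ⟨y, rfl⟩
  obtain ⟨g, rfl⟩ := hf y
  exact mem_range_orderOf_of_dvd ⟨g, rfl⟩ (orderOf_map_dvd f g)

/-- The spectrum of a direct product consists of the least common multiples. -/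
theorem range_orderOf_prod :
    Set.range (orderOf : G × H → ℕ) =
      Set.image2 Nat.lcm (Set.range (orderOf : G → ℕ)) (Set.range (orderOf : H → ℕ)) := by
  ext n
  constructor
  · rintro ⟨⟨a, b⟩, rfl⟩
    exact ⟨_, ⟨a, rfl⟩, _, ⟨b, rfl⟩, Prod.orderOf_mk.symm⟩
  · rintro ⟨_, ⟨a, rfl⟩, _, ⟨b, rfl⟩, rfl⟩
    exact ⟨(a, b), Prod.orderOf_mk⟩

/-- A number is a prime divisor of the group order iff it is a prime element order. -/
theorem prime_dvd_card_iff [Finite G] {p : ℕ} (hp : p.Prime) :
    p ∣ Nat.card G ↔ p ∈ Set.range (orderOf : G → ℕ) := by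
  have := Fact.mk hp
  constructor
  · intro h; exact exists_prime_orderOf_dvd_card' p h
  · rintro ⟨g, rfl⟩; exact orderOf_dvd_natCard g

/-- Prime-graph adjacency is the existence of commuting elements of the two orders. -/
theorem exists_orderOf_mul_iff [Finite G] {p q : ℕ} (hp : p.Prime) (hq : q.Prime) (hpq : p ≠ q) :
    (∃ g : G, orderOf g = p * q) ↔
      ∃ x y : G, orderOf x = p ∧ orderOf y = q ∧ Commute x y := by
  constructor
  · rintro ⟨g, hg⟩
    refine ⟨g ^ q, g ^ p, ?_, ?_, Commute.pow_pow_self g q p⟩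
    · rw [orderOf_pow_of_dvd hq.ne_zero (hg ▸ dvd_mul_left q p), hg, Nat.mul_div_cancel _ hq.pos]
    · rw [orderOf_pow_of_dvd hp.ne_zero (hg ▸ dvd_mul_right p q), hg, Nat.mul_div_cancel_left _ hp.pos]
  · rintro ⟨x, y, hx, hy, hc⟩
    refine ⟨x * y, ?_⟩
    rw [hc.orderOf_mul_eq_mul_orderOf_of_coprime (by rw [hx, hy]; exact (Nat.coprime_primes hp hq).2 hpq),
      hx, hy]

/-- Primes are adjacent iff `q` divides the order of the centralizer of some element of order `p`. -/
theorem exists_orderOf_mul_iff_centralizer [Finite G] {p q : ℕ} (hp : p.Prime) (hq : q.Prime)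
    (hpq : p ≠ q) :
    (∃ g : G, orderOf g = p * q) ↔
      ∃ x : G, orderOf x = p ∧ q ∣ Nat.card (Subgroup.centralizer ({x} : Set G)) := by
  have := Fact.mk hq
  rw [exists_orderOf_mul_iff hp hq hpq]
  constructor
  · rintro ⟨x, y, hx, hy, hc⟩
    refine ⟨x, hx, ?_⟩
    have hmem : y ∈ Subgroup.centralizer ({x} : Set G) :=
      Subgroup.mem_centralizer_singleton_iff.2 hc.symm.eq
    rw [← hy, ← Subgroup.orderOf_mk y hmem]
    exact orderOf_dvd_natCard _
  · rintro ⟨x, hx, hdvd⟩
    obtain ⟨⟨y, hy'⟩, hy⟩ := exists_prime_orderOf_dvd_card' q hdvd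
    rw [Subgroup.orderOf_mk] at hy
    refine ⟨x, y, hx, hy, ?_⟩
    exact (Subgroup.mem_centralizer_singleton_iff.1 hy').symm

/-- If `p`, `q` are non-adjacent, an element of order `p` has centralizer of order prime to `q`. -/
theorem not_dvd_card_centralizer [Finite G] {p q : ℕ} (hp : p.Prime) (hq : q.Prime) (hpq : p ≠ q)
    (h : ¬ ∃ g : G, orderOf g = p * q) {x : G} (hx : orderOf x = p) :
    ¬ q ∣ Nat.card (Subgroup.centralizer ({x} : Set G)) :=
  fun hd => h ((exists_orderOf_mul_iff_centralizer hp hq hpq).2 ⟨x, hx, hd⟩)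

/-- The element orders of a symmetric group are the least common multiples of cycle types. -/
theorem mem_range_orderOf_perm_iff {α : Type*} [Fintype α] [DecidableEq α] {n : ℕ} :
    n ∈ Set.range (orderOf : Equiv.Perm α → ℕ) ↔
      ∃ m : Multiset ℕ, m.sum ≤ Fintype.card α ∧ (∀ a ∈ m, 2 ≤ a) ∧ m.lcm = n := by
  constructor
  · rintro ⟨g, rfl⟩
    exact ⟨g.cycleType, (Equiv.Perm.sum_cycleType g) ▸ Finset.card_le_univ _,
      fun a ha => Equiv.Perm.two_le_of_mem_cycleType ha, Equiv.Perm.lcm_cycleType g⟩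
  · rintro ⟨m, h1, h2, rfl⟩
    obtain ⟨g, hg⟩ := (Equiv.Perm.exists_with_cycleType_iff α).2 ⟨h1, h2⟩
    exact ⟨g, by rw [← hg, Equiv.Perm.lcm_cycleType]⟩

end CfsgLib.Spectrum
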