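import Cfsg.Agent.Lib.Spectrum.Basic
import Mathlib.GroupTheory.Sylow
import Mathlib.GroupTheory.Solvable
import Mathlib.Algebra.BigOperators.Group.Finset.Basic

/-!
Among three prime divisors of the order of a finite solvable group two are adjacent in the
prime graph (G. Higman's lemma), with the underlying fact that a group `P⟨y⟩`, `y` fixed point
freely acting on `P`, cannot act fixed point freely on an abelian group of coprime order.
-/

namespace CfsgLib.Spectrum

open scoped Classical in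
/-- If `y` has order `t` and normalises `P` without fixing a nontrivial element, then on an abelian
group of order prime to `|P|` some nontrivial element is fixed by a nontrivial element of `P` or by `y`. -/
theorem exists_fixed_of_fpf_pair {H V : Type*} [Group H] [CommGroup V] [Finite V] [Nontrivial V]
    (P : Subgroup H) [Finite P] (y : H) (t : ℕ) [Fact t.Prime] (hyt : orderOf y = t)
    (hyP : ∀ x ∈ P, y * x * y⁻¹ ∈ P) (hfpf : ∀ x ∈ P, y * x * y⁻¹ = x → x = 1)
    (hP : P ≠ ⊥) (ρ : H →* MulAut V) (hcop : (Nat.card P).Coprime (Nat.card V)) :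
    ∃ v : V, v ≠ 1 ∧ ((∃ x ∈ P, x ≠ 1 ∧ ρ x v = v) ∨ ρ y v = v) := by
  by_contra hcon
  push Not at hcon
  have := Fintype.ofFinite P
  obtain ⟨v, hv⟩ := exists_ne (1 : V)
  have hsumP : ∀ u : V, ∏ x : P, ρ (x : H) u = 1 := by
    intro u
    by_contra hne
    obtain ⟨x₀, hx₀, hx₁⟩ := P.bot_or_exists_ne_one.resolve_left hP
    refine (hcon _ hne).1 x₀ hx₀ hx₁ ?_
    rw [map_prod]
    refine Fintype.prod_equiv (Equiv.mulLeft (⟨x₀, hx₀⟩ : P)) _ _ fun x => ?_
    rw [Equiv.coe_mulLeft, Subgroup.coe_mul, map_mul, MulAut.mul_apply]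
  have hyi : ∀ i : ℕ, ∀ x ∈ P, y ^ i * x * (y ^ i)⁻¹ ∈ P := by
    intro i
    induction i with
    | zero => intro x hx; simpa using hx
    | succ i ih =>
      intro x hx
      have : y ^ (i + 1) * x * (y ^ (i + 1))⁻¹ = y * (y ^ i * x * (y ^ i)⁻¹) * y⁻¹ := by
        rw [pow_succ']; group
      exact this ▸ hyP _ (ih x hx)
  -- the coset `P y^i` consists of the `P`-conjugates of `y^i`
  have hbij : ∀ i ∈ Finset.Ico 1 t,
      Function.Bijective fun x : P =>
        (⟨(x : H) * (y ^ i * (x : H)⁻¹ * (y ^ i)⁻¹),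
          P.mul_mem x.2 (hyi i _ (P.inv_mem x.2))⟩ : P) := by
    intro i hi
    rw [Finset.mem_Ico] at hi
    apply Finite.injective_iff_bijective.1
    intro a b hab
    simp only [Subtype.mk.injEq] at hab
    have hfix : y ^ i * ((a : H)⁻¹ * b) * (y ^ i)⁻¹ = (a : H)⁻¹ * b := by
      have h1 : (a : H) * y ^ i * (a : H)⁻¹ = (b : H) * y ^ i * (b : H)⁻¹ := by
        have := congrArg (· * y ^ i) hab
        simpa [mul_assoc] using this
      calc y ^ i * ((a : H)⁻¹ * b) * (y ^ i)⁻¹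
          = (a : H)⁻¹ * ((a : H) * y ^ i * (a : H)⁻¹) * b * (y ^ i)⁻¹ := by group
        _ = (a : H)⁻¹ * ((b : H) * y ^ i * (b : H)⁻¹) * b * (y ^ i)⁻¹ := by rw [h1]
        _ = (a : H)⁻¹ * b := by group
    obtain ⟨j, hj⟩ := exists_pow_eq_self_of_coprime (x := y) (n := i)
      (by
        rw [hyt]
        exact ((Fact.out : t.Prime).coprime_iff_not_dvd.2
          (Nat.not_dvd_of_pos_of_lt (by omega) hi.2)).symm)
    have hc : Commute (y ^ i) ((a : H)⁻¹ * b) := by
      rw [mul_inv_eq_iff_eq_mul] at hfix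
      exact hfix
    have hcy : Commute y ((a : H)⁻¹ * b) := hj ▸ hc.pow_left j
    have hab1 := hfpf _ (P.mul_mem (P.inv_mem a.2) b.2) (by rw [hcy.eq, mul_inv_cancel_right])
    exact Subtype.ext (inv_mul_eq_one.1 hab1)
  have hsumT : ∀ x : P, ∏ i ∈ Finset.range t, ρ ((x : H) * y ^ i * (x : H)⁻¹) v = 1 := by
    intro x
    have h1 : ∀ i, ρ ((x : H) * y ^ i * (x : H)⁻¹) v = ρ (x : H) (ρ (y ^ i) (ρ (x : H)⁻¹ v)) := by
      intro i; rw [map_mul, map_mul, MulAut.mul_apply, MulAut.mul_apply]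
    simp only [h1, ← map_prod]
    rw [EmbeddingLike.map_eq_one_iff]
    by_contra hne
    refine (hcon _ hne).2 ?_
    rw [map_prod]
    refine (Finset.prod_bij' (fun i _ => (i + 1) % t) (fun i _ => (i + t - 1) % t)
      (fun i _ => Finset.mem_range.2 (Nat.mod_lt _ (Fact.out : t.Prime).pos))
      (fun i _ => Finset.mem_range.2 (Nat.mod_lt _ (Fact.out : t.Prime).pos)) ?_ ?_ ?_)
    · intro i hi
      rw [Finset.mem_range] at hi
      rcases Nat.lt_or_ge (i + 1) t with h | h
      · rw [Nat.mod_eq_of_lt h, show i + 1 + t - 1 = i + t by omega, Nat.add_mod_right,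
          Nat.mod_eq_of_lt hi]
      · rw [show i + 1 = t by omega, Nat.mod_self, Nat.zero_add, Nat.mod_eq_of_lt (by omega)]
        omega
    · intro i hi
      rw [Finset.mem_range] at hi
      rcases Nat.eq_zero_or_pos i with h | h
      · subst h
        rw [Nat.zero_add, Nat.mod_eq_of_lt (by omega : t - 1 < t), Nat.sub_add_cancel (by omega),
          Nat.mod_self]
      · rw [show i + t - 1 = i - 1 + t by omega, Nat.add_mod_right,
          Nat.mod_eq_of_lt (by omega : i - 1 < t), Nat.sub_add_cancel (by omega), Nat.mod_eq_of_lt hi]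
    · intro i _
      show ρ y (ρ (y ^ i) _) = ρ (y ^ ((i + 1) % t)) _
      rw [← MulAut.mul_apply, ← map_mul, ← pow_succ', ← hyt, pow_mod_orderOf]
  -- the total over all `x y^i`
  have hrow : ∀ i ∈ Finset.Ico 1 t, ∏ x : P, ρ ((x : H) * y ^ i * (x : H)⁻¹) v = 1 := by
    intro i hi
    rw [← hsumP (ρ (y ^ i) v)]
    refine Fintype.prod_bijective _ (hbij i hi) _ _ fun x => ?_
    simp only [← MulAut.mul_apply, ← map_mul]
    congr 2
    group
  have htotal : ∏ x : P, ∏ i ∈ Finset.range t, ρ ((x : H) * y ^ i * (x : H)⁻¹) v = 1 :=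
    Finset.prod_eq_one fun x _ => hsumT x
  rw [Finset.prod_comm, Finset.range_eq_Ico,
    Finset.prod_eq_prod_Ico_succ_bot (Fact.out : t.Prime).pos] at htotal
  rw [Finset.prod_eq_one hrow, mul_one] at htotal
  simp only [pow_zero, mul_one, mul_inv_cancel, map_one, MulAut.one_apply, Finset.prod_const,
    Finset.card_univ, ← Nat.card_eq_fintype_card] at htotal
  apply hv
  have h1 : orderOf v ∣ Nat.card P := orderOf_dvd_of_pow_eq_one htotal
  exact orderOf_eq_one_iff.1
    (Nat.eq_one_of_dvd_coprimes hcop h1 (orderOf_dvd_natCard v))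

universe u

/-- A nontrivial finite solvable group has a normal subgroup of prime index. -/
theorem exists_normal_prime_index (G : Type u) [Group G] [Finite G] [Nontrivial G]
    (h : Group.IsSolvable G) : ∃ M : Subgroup G, M.Normal ∧ M.index.Prime := by
  have hlt : commutator G ≠ ⊤ := ne_of_lt (Group.IsSolvable.commutator_lt_top_of_nontrivial G)
  obtain ⟨M, hM, hle⟩ := (eq_top_or_exists_le_coatom (commutator G)).resolve_left hlt
  have hn : M.Normal := Subgroup.Normal.of_commutator_le (G := G) hle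
  have hc : IsMulCommutative (G ⧸ M) := Subgroup.Normal.quotient_commutative_iff_commutator_le.2 hle
  refine ⟨M, hn, ?_⟩
  have : Nontrivial (G ⧸ M) := QuotientGroup.nontrivial_iff.2 hM.1
  have hsimp : IsSimpleGroup (G ⧸ M) := ⟨fun K _ => by
    rcases hM.le_iff.1 (QuotientGroup.le_comap_mk' M K) with hK | hK
    · right
      exact Subgroup.comap_injective (QuotientGroup.mk'_surjective M) (hK.trans (Subgroup.comap_top _).symm)
    · left
      apply Subgroup.comap_injective (QuotientGroup.mk'_surjective M)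
      rw [hK, MonoidHom.comap_bot, QuotientGroup.ker_mk']⟩
  let : CommGroup (G ⧸ M) := { (inferInstance : Group (G ⧸ M)) with mul_comm := hc.is_comm.comm }
  exact IsSimpleGroup.prime_card (α := G ⧸ M)

/-- A nontrivial solvable normal subgroup contains a nontrivial normal abelian subgroup of prime exponent. -/
theorem exists_normal_elementary_le {G : Type u} [Group G] [Finite G] (M : Subgroup G) [M.Normal]
    (hM : M ≠ ⊥) (hs : Group.IsSolvable M) :
    ∃ (V : Subgroup G) (s : ℕ), s.Prime ∧ V.Normal ∧ V ≠ ⊥ ∧ V ≤ M ∧ IsMulCommutative V ∧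
      ∀ v ∈ V, v ^ s = 1 := by
  classical
  obtain ⟨n, hn⟩ := hs.solvable
  have hex : ∃ k, derivedSeries M k = ⊥ := ⟨n, hn⟩
  have hfind := Nat.find_spec hex
  obtain ⟨k, hk⟩ : ∃ k, Nat.find hex = k + 1 := by
    refine Nat.exists_eq_succ_of_ne_zero fun h0 => hM ?_
    rw [h0, derivedSeries_zero] at hfind
    rw [← M.range_subtype, MonoidHom.range_eq_map, hfind, Subgroup.map_bot]
  have hDne : derivedSeries M k ≠ ⊥ := fun h => Nat.find_min hex (by omega) h
  rw [hk, derivedSeries_succ] at hfind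
  let D := (derivedSeries M k).map M.subtype
  have hDn : D.Normal := ConjAct.normal_of_characteristic_of_normal
  have hDM : D ≤ M := Subgroup.map_subtype_le _
  have hDc : ∀ a ∈ D, ∀ b ∈ D, a * b = b * a := by
    rintro _ ⟨a, ha, rfl⟩ _ ⟨b, hb, rfl⟩
    rw [Subgroup.commutator_eq_bot_iff_le_centralizer] at hfind
    rw [← map_mul, ← map_mul, ← Subgroup.mem_centralizer_iff.1 (hfind hb) a ha]
  have hcard : Nat.card D ≠ 1 := fun h => hDne
    ((Subgroup.map_eq_bot_iff_of_injective _ M.subtype_injective).1 (Subgroup.card_eq_one.1 h))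
  obtain ⟨s, hs, hsd⟩ := Nat.exists_prime_and_dvd hcard
  let V : Subgroup G :=
    { carrier := {v | v ∈ D ∧ v ^ s = 1}
      mul_mem' := fun {a b} ha hb => ⟨D.mul_mem ha.1 hb.1, by
        rw [Commute.mul_pow (hDc a ha.1 b hb.1), ha.2, hb.2, one_mul]⟩
      one_mem' := ⟨D.one_mem, one_pow s⟩
      inv_mem' := fun {a} ha => ⟨D.inv_mem ha.1, by rw [inv_pow, ha.2, inv_one]⟩ }
  refine ⟨V, s, hs, ⟨fun v hv g => ⟨hDn.conj_mem v hv.1 g, ?_⟩⟩, ?_, fun v hv => hDM hv.1,
    ⟨⟨fun a b => Subtype.ext (hDc a a.2.1 b b.2.1)⟩⟩, fun v hv => hv.2⟩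
  · rw [conj_pow, hv.2, mul_one, mul_inv_cancel]
  · intro h
    have := Fact.mk hs
    obtain ⟨x, hx⟩ := exists_prime_orderOf_dvd_card' s hsd
    have hxV : (x : G) ∈ V := ⟨x.2, by
      rw [← hx, ← Subgroup.orderOf_coe]; exact pow_orderOf_eq_one _⟩
    rw [h, Subgroup.mem_bot] at hxV
    rw [← Subgroup.orderOf_coe, hxV, orderOf_one] at hx
    exact hs.one_lt.ne hx

/-- **Higman's lemma**: among three primes dividing the order of a solvable group two are adjacent. -/
theorem exists_orderOf_mul_of_solvable_three {G : Type u} [Group G] [Finite G]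
    (hsol : Group.IsSolvable G) {p q r : ℕ} (hp : p.Prime) (hq : q.Prime) (hr : r.Prime)
    (hpq : p ≠ q) (hpr : p ≠ r) (hqr : q ≠ r) (hpG : p ∣ Nat.card G) (hqG : q ∣ Nat.card G)
    (hrG : r ∣ Nat.card G) :
    ∃ a ∈ ({p, q, r} : Finset ℕ), ∃ b ∈ ({p, q, r} : Finset ℕ),
      a ≠ b ∧ ∃ g : G, orderOf g = a * b := by
  suffices H : ∀ (n : ℕ) (G : Type u) [Group G] [Finite G], Nat.card G = n → Group.IsSolvable G →
      ∀ ρ : Finset ℕ, ρ.card = 3 → (∀ a ∈ ρ, a.Prime ∧ a ∣ Nat.card G) →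
      ∃ a ∈ ρ, ∃ b ∈ ρ, a ≠ b ∧ ∃ g : G, orderOf g = a * b by
    refine H _ G rfl hsol {p, q, r} (by simp [hpq, hpr, hqr]) ?_
    simp [hp, hq, hr, hpG, hqG, hrG]
  intro n
  induction n using Nat.strong_induction_on with
  | _ n ih =>
  intro G _ _ hn hsol ρ hρ hρd
  by_contra hcon
  push Not at hcon
  obtain ⟨p₀, hp₀⟩ : ρ.Nonempty := Finset.card_pos.1 (by omega)
  have hcard1 : 1 < Nat.card G :=
    (hρd p₀ hp₀).1.one_lt.trans_le (Nat.le_of_dvd Nat.card_pos (hρd p₀ hp₀).2)
  have : Nontrivial G := Finite.one_lt_card_iff_nontrivial.1 hcard1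
  obtain ⟨M, hMn, hMp⟩ := exists_normal_prime_index G hsol
  set t := M.index with ht
  have hMcard : Nat.card M * t = Nat.card G := M.card_mul_index
  have hnotM : ∃ a ∈ ρ, ¬ a ∣ Nat.card M := by
    by_contra hall
    push Not at hall
    obtain ⟨a, ha, b, hb, hab, g, hg⟩ := ih (Nat.card M) (by
      rw [← hn, ← hMcard]
      exact lt_mul_of_one_lt_right Nat.card_pos hMp.one_lt) M rfl
      inferInstance ρ hρ (fun a ha => ⟨(hρd a ha).1, hall a ha⟩)
    exact hcon a ha b hb hab g (Subgroup.orderOf_coe g ▸ hg)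
  obtain ⟨t', ht'ρ, ht'M⟩ := hnotM
  have htt : t' = t := by
    rcases (hρd t' ht'ρ).1.dvd_mul.1 (hMcard ▸ (hρd t' ht'ρ).2) with h | h
    · exact absurd h ht'M
    · exact (Nat.prime_dvd_prime_iff_eq (hρd t' ht'ρ).1 hMp).1 h
  subst htt
  have := Fact.mk hMp
  have hMne : M ≠ ⊥ := by
    intro h
    obtain ⟨a, ha, hat⟩ : ∃ a ∈ ρ, a ≠ t := Finset.exists_mem_ne (by omega) t
    rcases (hρd a ha).1.dvd_mul.1 (hMcard ▸ (hρd a ha).2) with h' | h'
    · rw [h, Subgroup.card_bot, Nat.dvd_one] at h'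
      exact (hρd a ha).1.ne_one h'
    · exact hat ((Nat.prime_dvd_prime_iff_eq (hρd a ha).1 hMp).1 h')
  obtain ⟨V, s, hs, hVn, hVne, hVM, hVc, hVexp⟩ := exists_normal_elementary_le M hMne inferInstance
  have hsord : ∀ v ∈ V, v ≠ 1 → orderOf v = s := fun v hv hv1 =>
    have := Fact.mk hs
    orderOf_eq_prime (hVexp v hv) hv1
  have hsρ : s ∈ ρ := by
    by_contra hsρ
    have hq : ∀ a ∈ ρ, a ∣ Nat.card (G ⧸ V) := by
      intro a ha
      rcases (hρd a ha).1.dvd_mul.1 (V.card_eq_card_quotient_mul_card_subgroup ▸ (hρd a ha).2)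
        with h | h
      · exact h
      · exfalso
        have := Fact.mk (hρd a ha).1
        obtain ⟨v, hv⟩ := exists_prime_orderOf_dvd_card' a h
        rw [← Subgroup.orderOf_coe] at hv
        rw [hsord v v.2 (fun h1 => by rw [h1, orderOf_one] at hv; exact (hρd a ha).1.one_lt.ne hv)]
          at hv
        exact hsρ (hv ▸ ha)
    obtain ⟨a, ha, b, hb, hab, g, hg⟩ := ih (Nat.card (G ⧸ V)) (by
      rw [← hn, V.card_eq_card_quotient_mul_card_subgroup]
      exact lt_mul_of_one_lt_right Nat.card_pos ((Subgroup.one_lt_card_iff_ne_bot V).2 hVne))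
      (G ⧸ V) rfl inferInstance ρ hρ (fun a ha => ⟨(hρd a ha).1, hq a ha⟩)
    obtain ⟨x, hx⟩ := range_orderOf_quotient_subset V ⟨g, hg⟩
    exact hcon a ha b hb hab x hx
  have hst : s ≠ t := by
    intro h
    obtain ⟨v, hv, hv1⟩ := V.bot_or_exists_ne_one.resolve_left hVne
    exact ht'M (h ▸ hsord v hv hv1 ▸ M.orderOf_dvd_natCard (hVM hv))
  obtain ⟨p, hpρ, hps, hpt⟩ : ∃ p ∈ ρ, p ≠ s ∧ p ≠ t := by
    obtain ⟨a, ha⟩ : ((ρ.erase s).erase t).Nonempty := by
      rw [← Finset.card_pos, Finset.card_erase_of_mem (Finset.mem_erase.2 ⟨hst.symm, ht'ρ⟩),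
        Finset.card_erase_of_mem hsρ, hρ]
      omega
    simp only [Finset.mem_erase] at ha
    exact ⟨a, ha.2.2, ha.2.1, ha.1⟩
  have hp := (hρd p hpρ).1
  have := Fact.mk hp
  have hpM : p ∣ Nat.card M := by
    rcases hp.dvd_mul.1 (hMcard ▸ (hρd p hpρ).2) with h | h
    · exact h
    · exact absurd ((Nat.prime_dvd_prime_iff_eq hp hMp).1 h) hpt
  let S : Sylow p M := default
  set P : Subgroup G := (S : Subgroup M).map M.subtype with hPdef
  have hSne : (S : Subgroup M) ≠ ⊥ := S.ne_bot_of_dvd_card hpM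
  have hPne : P ≠ ⊥ := fun h =>
    hSne ((Subgroup.map_eq_bot_iff_of_injective _ M.subtype_injective).1 h)
  have hPp : IsPGroup p P := S.2.map M.subtype
  have htN : t ∣ Nat.card (Subgroup.normalizer (P : Set G)) := by
    have hF := Sylow.normalizer_sup_eq_top S
    rw [← hPdef] at hF
    have h2 := Subgroup.relIndex_sup_right (K := M) (H := Subgroup.normalizer (P : Set G))
    rw [hF, Subgroup.relIndex_top_right] at h2
    rw [ht, h2]
    exact Subgroup.relIndex_dvd_card _ _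
  obtain ⟨⟨y, hyN⟩, hy⟩ := exists_prime_orderOf_dvd_card' t htN
  rw [Subgroup.orderOf_mk] at hy
  have hpx : ∀ x ∈ P, x ≠ 1 → ∃ x' : G, orderOf x' = p ∧ ∀ z, Commute x z → Commute x' z := by
    intro x hx hx1
    obtain ⟨k, hk⟩ := (IsPGroup.iff_orderOf.1 hPp) ⟨x, hx⟩
    rw [Subgroup.orderOf_mk] at hk
    rcases k with _ | k
    · exact absurd (orderOf_eq_one_iff.1 hk) hx1
    refine ⟨x ^ (p ^ k), ?_, fun z hz => hz.pow_left _⟩
    rw [orderOf_pow_of_dvd (pow_ne_zero _ hp.ne_zero) (hk ▸ pow_dvd_pow p k.le_succ), hk, pow_succ',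
      Nat.mul_div_cancel _ (pow_pos hp.pos k)]
  have hfpf : ∀ x ∈ P, y * x * y⁻¹ = x → x = 1 := by
    intro x hx hxy
    by_contra hx1
    obtain ⟨x', hx', hcomm⟩ := hpx x hx hx1
    obtain ⟨g, hg⟩ := (exists_orderOf_mul_iff hp hMp hpt).2
      ⟨x', y, hx', hy, hcomm y (mul_inv_eq_iff_eq_mul.1 hxy).symm⟩
    exact hcon p hpρ t ht'ρ hpt g hg
  have : Nontrivial V := Subgroup.nontrivial_iff_ne_bot V |>.2 hVne
  let : CommGroup V := { (inferInstance : Group V) with mul_comm := hVc.is_comm.comm }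
  have := Fact.mk hs
  have hVs : IsPGroup s V := fun v => ⟨1, Subtype.ext (by rw [pow_one]; exact hVexp v v.2)⟩
  obtain ⟨v, hv, hfix⟩ := exists_fixed_of_fpf_pair P y t hy
    (fun x hx => (Subgroup.mem_normalizer_iff.1 hyN x).1 hx) hfpf hPne
    (MulAut.conjNormal (H := V)) (IsPGroup.coprime_card_of_ne p s hps P V hPp hVs)
  have hvv : orderOf (v : G) = s := hsord v v.2 (fun h => hv (Subtype.ext h))
  have hcomm : ∀ z : G, MulAut.conjNormal z v = v → Commute z (v : G) := fun z hz => by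
    have h := congrArg Subtype.val hz
    rw [MulAut.conjNormal_apply] at h
    exact mul_inv_eq_iff_eq_mul.1 h
  rcases hfix with ⟨x, hx, hx1, hxv⟩ | hyv
  · obtain ⟨x', hx', hcm⟩ := hpx x hx hx1
    obtain ⟨g, hg⟩ := (exists_orderOf_mul_iff hp hs hps).2
      ⟨x', (v : G), hx', hvv, hcm _ (hcomm x hxv)⟩
    exact hcon p hpρ s hsρ hps g hg
  · obtain ⟨g, hg⟩ := (exists_orderOf_mul_iff hMp hs hst.symm).2
      ⟨y, (v : G), hy, hvv, hcomm y hyv⟩
    exact hcon t ht'ρ s hsρ hst.symm g hg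

end CfsgLib.Spectrum
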